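import Mathlib
import Cfsg.Prelude.Def_Transfer

set_option autoImplicit false

/-! # Sylow subgroups of classical groups through wreath products: shared vocabulary -/

namespace Cfsg.Agent.Lib.Helper58.WrSyl

/-- `Sym(n)` permutes the coordinates of `S ^ n` -/
def permAut (S : Type*) [Group S] (n : ℕ) : Equiv.Perm (Fin n) →* MulAut (Fin n → S) where
  toFun σ :=
    { toFun := fun b i => b (σ.symm i)
      invFun := fun b i => b (σ i)
      left_inv := fun b => by funext i; simp
      right_inv := fun b => by funext i; simp
      map_mul' := fun _ _ => rfl }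
  map_one' := rfl
  map_mul' _ _ := rfl

theorem permAut_apply (S : Type*) [Group S] (n : ℕ) (σ : Equiv.Perm (Fin n)) (b : Fin n → S)
    (i : Fin n) : permAut S n σ b i = b (σ.symm i) := rfl

/-- the wreath product `S wr Sym(n)` -/
abbrev Wr (S : Type*) [Group S] (n : ℕ) := (Fin n → S) ⋊[permAut S n] Equiv.Perm (Fin n)

instance finite_wr (S : Type*) [Group S] [Finite S] (n : ℕ) : Finite (Wr S n) :=
  Finite.of_equiv _ SemidirectProduct.equivProd.symm

/-- `p`-th powers are products of commutators: the abelianization has exponent `p` -/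
def PowComm (p : ℕ) (H : Type*) [Group H] : Prop := ∀ x : H, x ^ p ∈ commutator H

/-- there is a normal elementary abelian subgroup of order at least `p ^ k` -/
def HasNEA (p k : ℕ) (H : Type*) [Group H] : Prop :=
  ∃ E : Subgroup H, E.Normal ∧ Cfsg.IsElementaryAbelian p E ∧ p ^ k ≤ Nat.card E

/-- the normal elementary abelian subgroups have order at most `p ^ k` -/
def NEAle (p k : ℕ) (H : Type*) [Group H] : Prop :=
  ∀ E : Subgroup H, E.Normal → Cfsg.IsElementaryAbelian p E → Nat.card E ≤ p ^ k

end Cfsg.Agent.Lib.Helper58.WrSyl
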