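import Cfsg.Agent.Lib.Helper58.WrSyl.Defs
import Cfsg.Prelude.Def_CaseTheorems

set_option autoImplicit false

namespace Cfsg.Agent.Lib.Helper58.WrSyl

open Cfsg

/-- [U2] -/
theorem neaLE_of_pRankLE {p k : ℕ} {G : Type*} [Group G] (h : PRankLE p k G) (H : Subgroup G) :
    NEAle p k H := by
  intro E _ hE
  have h1 := h (E.map H.subtype) (have := hE.1; Subgroup.map_isMulCommutative E H.subtype) (by
    rintro _ ⟨a, ha, rfl⟩
    have := hE.2 a ha
    rw [← map_pow, this, map_one])
  rwa [Subgroup.card_map_of_injective H.subtype_injective] at h1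

end Cfsg.Agent.Lib.Helper58.WrSyl
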